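import Cfsg.Agent.Spor.Fi28431.L.D0

set_option autoImplicit false
set_option maxRecDepth 100000000
set_option Elab.async false

namespace Cfsg.Agent.Spor.Fi28431.L

theorem gr4 : sub M3 (U.growI W1 [9, 8, 5, 4, 3, 2, 1, 0, 6, 7, 5, 4, 3, 2, 1, 6, 8, 9, 5, 4, 3, 2, 1, 0, 6, 7, 8, 9, 5, 4, 3, 2, 1, 0, 6, 7, 8, 5, 4, 3, 2, 1, 0, 6, 7, 8, 5, 4, 3, 2, 8, 9, 5, 8] (Nat.shiftLeft 1 0)) = true := by decide +kernel

theorem cl6 : band (U.closedW W1 M3) (sub (Nat.shiftLeft 1 0) M3) = true := by decide +kernel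

theorem sz7 : sizeOk 15 M3 28431 = true := by decide +kernel

theorem fx9 : U.closedW W2 (Nat.shiftLeft 1 0) = true := by decide +kernel

theorem gr11 : sub M10 (U.growI W2 [8, 5, 4, 3, 2, 1, 0, 6, 7, 5, 4, 3, 2, 1, 6, 8, 5, 4, 3, 2, 1, 0, 6, 7, 8, 5, 4, 3, 2, 1] (Nat.shiftLeft 1 1)) = true := by decide +kernel

theorem cl13 : band (U.closedW W2 M10) (sub (Nat.shiftLeft 1 1) M10) = true := by decide +kernel

theorem sz14 : sizeOk 15 M10 960 = true := by decide +kernel

theorem fx17 : U.closedW W16 (Nat.shiftLeft 1 1) = true := by decide +kernel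

theorem gr19 : sub M18 (U.growI W16 [5, 6, 7, 4, 3, 2, 1, 0, 5, 6, 4, 3, 2, 1, 5, 4, 3, 2] (Nat.shiftLeft 1 2)) = true := by decide +kernel

theorem cl21 : band (U.closedW W16 M18) (sub (Nat.shiftLeft 1 2) M18) = true := by decide +kernel

theorem sz22 : sizeOk 15 M18 84 = true := by decide +kernel

theorem fx25 : U.closedW W24 (Nat.shiftLeft 1 2) = true := by decide +kernel

theorem gr27 : sub M26 (U.growI W24 [2, 3, 4, 1, 0, 2, 3, 1, 2] (Nat.shiftLeft 1 1248)) = true := by decide +kernel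

theorem cl29 : band (U.closedW W24 M26) (sub (Nat.shiftLeft 1 1248) M26) = true := by decide +kernel

theorem sz30 : sizeOk 15 M26 20 = true := by decide +kernel

theorem fx33 : U.closedW W32 (Nat.shiftLeft 1 1248) = true := by decide +kernel

theorem gr35 : sub M34 (U.growI W32 [0, 1, 2, 3, 4, 5, 4, 2, 0] (Nat.shiftLeft 1 2455)) = true := by decide +kernel

theorem cl37 : band (U.closedW W32 M34) (sub (Nat.shiftLeft 1 2455) M34) = true := by decide +kernel

theorem sz38 : sizeOk 15 M34 216 = true := by decide +kernel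

end Cfsg.Agent.Spor.Fi28431.L
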