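import Cfsg.Agent.Spor.Prim
import Cfsg.Agent.Spor.Fi28431.Main
import Cfsg.Agent.Spor.Fi28431.L.C0

set_option autoImplicit false
set_option maxRecDepth 100000000
set_option Elab.async false

namespace Cfsg.Agent.Spor.Fi28431.L

theorem hU : U.Ok 15 := U.ok_of 15 (show AllP (fun n => Net.okb 15 n = true) [n0, n1, n2, n3, n4, n5, n6, n7, n8, n9, n10, n11] from AllP.cons ok0 (AllP.cons ok1 (AllP.cons ok2 (AllP.cons ok3 (AllP.cons ok4 (AllP.cons ok5 (AllP.cons ok6 (AllP.cons ok7 (AllP.cons ok8 (AllP.cons ok9 (AllP.cons ok10 (AllP.cons ok11 (AllP.nil)))))))))))))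

theorem hfP : ∀ j < 10, U.fP [1, 3, 5, 7, 9, 11, 13, 15, 17, 19] j = fP j := by
  intro j hj
  interval_cases j <;> rfl
theorem eG : gsub 10 fP = U.lsub W1 := (gsub_congr hfP).symm.trans (lsub_eq_gsub U [1, 3, 5, 7, 9, 11, 13, 15, 17, 19])
theorem upz1 : ev (atm 10 fP) [0] = U.τ 1 := pz1
theorem upz3 : ev (atm 10 fP) [2] = U.τ 3 := pz2
theorem upz5 : ev (atm 10 fP) [4] = U.τ 5 := pz3
theorem upz7 : ev (atm 10 fP) [6] = U.τ 7 := pz4
theorem upz9 : ev (atm 10 fP) [8] = U.τ 9 := pz5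
theorem upz11 : ev (atm 10 fP) [10] = U.τ 11 := pz6
theorem upz13 : ev (atm 10 fP) [12] = U.τ 13 := pz7
theorem upz15 : ev (atm 10 fP) [14] = U.τ 15 := pz8
theorem upz17 : ev (atm 10 fP) [16] = U.τ 17 := pz9
theorem upz19 : ev (atm 10 fP) [18] = U.τ 19 := pz10
theorem upz21 : ev (atm 10 fP) [4, 6, 8, 10, 12, 14, 16] = U.τ 21 := pz11
theorem upz23 : ev (atm 10 fP) [10, 8, 6, 10, 12, 14, 10, 16, 18] = U.τ 23 := pz13
theorem eH : wsub 10 fP BW = U.lsub W2 :=
  lsub_eq_of_all₂ (show List.Forall₂ _ [[0], [2], [4], [6], [8], [10], [12], [14], [16]] [[1], [3], [5], [7], [9], [11], [13], [15], [17]] from List.Forall₂.cons (upz1.trans (one_mul _).symm) (List.Forall₂.cons (upz3.trans (one_mul _).symm) (List.Forall₂.cons (upz5.trans (one_mul _).symm) (List.Forall₂.cons (upz7.trans (one_mul _).symm) (List.Forall₂.cons (upz9.trans (one_mul _).symm) (List.Forall₂.cons (upz11.trans (one_mul _).symm) (List.Forall₂.cons (upz13.trans (one_mul _).symm) (List.Forall₂.cons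 (upz15.trans (one_mul _).symm) (List.Forall₂.cons (upz17.trans (one_mul _).symm) (List.Forall₂.nil))))))))))
theorem reach5 : Reach (U.lsub W1) 0 M3 := (Reach.grow hU (Reach.base _ 0) gr4)
theorem orb8 : (orbS (U.lsub W1) 0).ncard = 28431 := reach5.ncard hU cl6 sz7
theorem orb8e : orbS (U.lsub W1) 0 = {c | Nat.testBit M3 c = true} := reach5.orb hU cl6
theorem reach12 : Reach (U.lsub W2) 1 M10 := (Reach.grow hU (Reach.base _ 1) gr11)
theorem orb15 : (orbS (U.lsub W2) 1).ncard = 960 := reach12.ncard hU cl13 sz14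
theorem orb15e : orbS (U.lsub W2) 1 = {c | Nat.testBit M10 c = true} := reach12.orb hU cl13
theorem reach20 : Reach (U.lsub W16) 2 M18 := (Reach.grow hU (Reach.base _ 2) gr19)
theorem orb23 : (orbS (U.lsub W16) 2).ncard = 84 := reach20.ncard hU cl21 sz22
theorem orb23e : orbS (U.lsub W16) 2 = {c | Nat.testBit M18 c = true} := reach20.orb hU cl21
theorem reach28 : Reach (U.lsub W24) 1248 M26 := (Reach.grow hU (Reach.base _ 1248) gr27)
theorem orb31 : (orbS (U.lsub W24) 1248).ncard = 20 := reach28.ncard hU cl29 sz30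
theorem orb31e : orbS (U.lsub W24) 1248 = {c | Nat.testBit M26 c = true} := reach28.orb hU cl29
theorem reach36 : Reach (U.lsub W32) 2455 M34 := (Reach.grow hU (Reach.base _ 2455) gr35)
theorem orb39 : (orbS (U.lsub W32) 2455).ncard = 216 := reach36.ncard hU cl37 sz38
theorem orb39e : orbS (U.lsub W32) 2455 = {c | Nat.testBit M34 c = true} := reach36.orb hU cl37
theorem lb40 : 216 ∣ Nat.card (U.lsub W32) := dvd_card_orb orb39
theorem lb41 : 4320 ∣ Nat.card (U.lsub W24) :=
  dvd_card_step (s := 20) (M := 216) (B := U.lsub W32) (U.lsub_sub (by decide)) (hU.fixes fx33) orb31 lb40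
theorem lb42 : 362880 ∣ Nat.card (U.lsub W16) :=
  dvd_card_step (s := 84) (M := 4320) (B := U.lsub W24) (U.lsub_sub (by decide)) (hU.fixes fx25) orb23 lb41
theorem lb43 : 348364800 ∣ Nat.card (U.lsub W2) :=
  dvd_card_step (s := 960) (M := 362880) (B := U.lsub W16) (U.lsub_sub (by decide)) (hU.fixes fx17) orb15 lb42
theorem lb : 9904359628800 ∣ Nat.card (U.lsub W1) :=
  dvd_card_step (s := 28431) (M := 348364800) (B := U.lsub W2) (U.lsub_sub (by decide)) (hU.fixes fx9) orb8 lb43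

end Cfsg.Agent.Spor.Fi28431.L
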